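import Cfsg.Agent.Helper62.SC3.Defs2
import Cfsg.Prelude.Def_Characters

/-!
# S3331 block C (characters + class constants) — shared definitions (helper21 for helper62)

`CData S`: the two exceptional irreducible characters `χ`, `ψ` of a finite simple group `G` with a
self-centralizing element `x` of order 3 inverted by the involution `t`:
`χ(1) = f`, `ψ(1) = f + 1`, `χ(x) = 1`, `ψ(x) = -1`, every other non-principal irreducible
character vanishes at `x`, `ψ = 1 + χ` off the elements of order 3, and `χ(t) = c ∈ ℤ`.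
-/

set_option autoImplicit false

namespace Cfsg.Agent.Helper21.SC3C

open Cfsg Cfsg.Agent.Helper62.SC3

universe u

/-- The character data of block C. -/
structure CData {G : Type u} [Group G] (S : Setup G) where
  χ : G → ℂ
  ψ : G → ℂ
  f : ℕ
  c : ℤ
  hχ : IsIrrCharacter G χ
  hψ : IsIrrCharacter G ψ
  hχ1 : χ 1 = (f : ℂ)
  hψ1 : ψ 1 = (f : ℂ) + 1
  hχx : χ S.x = 1
  hψx : ψ S.x = -1
  hχt : χ S.t = (c : ℂ)
  hχ_ne : χ ≠ fun _ => 1
  hψ_ne : ψ ≠ fun _ => 1
  hχψ : χ ≠ ψ
  hother : ∀ θ : G → ℂ, IsIrrCharacter G θ → θ ≠ (fun _ => 1) → θ ≠ χ → θ ≠ ψ → θ S.x = 0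
  hrel : ∀ g : G, orderOf g ≠ 3 → ψ g = 1 + χ g

open scoped ComplexConjugate in
/-- (CC) as a hypothesis: the class multiplication constants `a_{a b g}` when one of the three
classes is the class of `x`: only `1`, `χ`, `ψ` contribute. -/
def HCC {G : Type u} [Group G] (S : Setup G) (D : CData S) : Prop :=
  ∀ a b g : G, (IsConj S.x a ∨ IsConj S.x b ∨ IsConj S.x g) →
    (Nat.card {p : G × G // IsConj a p.1 ∧ IsConj b p.2 ∧ p.1 * p.2 = g} : ℂ) * (Nat.card G : ℂ) =
      (Nat.card {y : G // IsConj a y} : ℂ) * (Nat.card {y : G // IsConj b y} : ℂ) *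
        (1 + D.χ a * D.χ b * conj (D.χ g) / (D.f : ℂ)
           + D.ψ a * D.ψ b * conj (D.ψ g) / ((D.f : ℂ) + 1))

/-- (SYL) as a hypothesis: the elements of order 3 form one conjugacy class. -/
def HSyl {G : Type u} [Group G] (S : Setup G) : Prop :=
  ∀ y : G, orderOf y = 3 → IsConj S.x y

open scoped ComplexConjugate in
/-- (P3) as a hypothesis: the structure constant `a_{x x g}` in cleared form. -/
def HP3 {G : Type u} [Group G] (S : Setup G) (D : CData S) : Prop :=
  ∀ g : G, 9 * (pairs3 g : ℂ) * (D.f : ℂ) * ((D.f : ℂ) + 1) =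
    (Nat.card G : ℂ) * ((D.f : ℂ) * ((D.f : ℂ) + 1) + ((D.f : ℂ) + 1) * conj (D.χ g)
      + (D.f : ℂ) * conj (D.ψ g))

end Cfsg.Agent.Helper21.SC3C
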